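set_option autoImplicit false
namespace Cfsg.Agent.Lib.Helper6.TCD.U62a
noncomputable def P0 (i : Nat) : Nat := Nat.land (Nat.shiftRight 0x2b0a829fac6b4a2a7fa5a97a1a95a46a8a9e92a1e8c9c277a86b3aca93a129c9aa69a6698ab2adaaa94a7aa6aa65da3e8e94aa4916af97a50a96ab8fa9d8ee5f8ea39aba33982619623094657a8a4f8ae749ce729c6a389e4487a5b8aa9ba6a538da1d86a1998e629f27da0a89a42139b20c84a7b9e256956549a28d9e6889d9fc82e10801f8926487da01a2e6e7c1ef7f6408fe85855fba0e81a020879a67791e39f9e08527a81ddd7722c9d66b845d79be26819ff752228862087e6d99a0f82a65991d073a168f631972598a64c871c57225a9361b706388be256f60480e0291a4b891b69064e8f1b370a4a72e476ddbe6b1f26aa43909a5691ec6d1b27a5e87263771a358d19b66a32661ca8ba2d655da765d88a1c07562374dd274618712176318b7ddde79e0d605e5839cf5f1f9825d65e1f4815726edba6e5b87d5fe5b9eb7e9ea5b16b5e57d60df35f9f15cd63589a67b9ed579a25b5a067d9e67582789e155ddf65d9676d9464d925ed9063d8e635cd7314b5d567599655d9746b59c71d364d5ab6b9c3645276bdbf48d85625846a5bc47d705bdb5685b16c1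194913162187619376a1a74410f57da34715c56d5a56558665565555454d52545504c1035354c628ff4c8f9485204951a4bd174551444d12445383b13a4613c591805fce839d495a14f50cdb4b4e04ad2a388d45e8d3515695dcd051d465c51e4755d331445a939508e3505404fd3e4f5615810e4350c42d0a4250841d064150453902404e9528ba390de2c8d1520cf338dd32cca324f2320c7318c52a53b3acea401344cca428cfd459292792c280fc3d89c4b8da364d835cd6355284988f3e9223e0f73351b3d4f43ccf13c0ef3b8c430cc2304c02fcbe2f4bc294fe1f4a11e49b26899260fb2388d2308a2248821c863b4a829ca62ece6394672e0df27ce1188dc2d8b52d0b325c962549424c9224490348b12c0af22cae2b4ac2acaa2148420c82204801fc682e47c198652dc611805f1645815c56154541bc6e1b46c1ac6a1a47e2887b1e86418c9d1e0771d85e1745c16c5a1d4741cc721c47014c52144400fc4e1343e0ec3a0e4350d0330c84410c421045013c4c0f43c12c4a124380dc3612047118450c4240bc2e08c210801f0741c09c26094300b4220b02b0a81e0a4280501a04c110400f0541b0641206017058090340801c0a0380c02c0400c060140100800 (Nat.mul 10 (Nat.land i 1023))) 1023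
end Cfsg.Agent.Lib.Helper6.TCD.U62a
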