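set_option autoImplicit false
namespace Cfsg.Agent.Lib.Helper6.TCD.U62a
noncomputable def P1 (i : Nat) : Nat := Nat.land (Nat.shiftRight 0x2aeac6b2ace85a5eb4a0e899f6889ee8da2e73a9672a8e6c9aaa0a529e9fa66a6e8e99698abe619769f9529296a5092a9aaa28ca9e5eab2aa8fe3dac237ab635a065c8fa9daae3baa65b8b23c8c22f9d64ba9aa490a208961f9b6a286ea19a6688ca9ca664885e62a5a158528aa56809ea918360c82e568429380a5294690826057ee4c9d28f7ce6480e469164490e717b1eda1e7fa1a789f1e879deaa11e2a0a3479a67792779da0a8b679765dd76228759fe9bdd588df783a709b9d1875d39ae1a8661898dcc9825f725c78465583e219665895e2e93dc2705c093a0491e536e6007fe267f5bf935bc6c9f8889f67d5b0925a86e1a67bdee9024168a386ba3a8e63367a31676367859b77d978a99676dad8ae2964a278918f871c38798e635ce7361672dca84d81849c6715c474a0881e067f1795e1fa5d9ba805f15bdb66d5b45ddf95d5f45ade9769ac599aa595f25d1f057da468deb56d675fde578d597815866555779dc549805e9d754190751d073d4c62d8a51188525466153d60d827219467d325f57c5ed936f9bd6cdbb6c5a748123495216dd1d5b51a6bd2f45d14681a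b6a51258d114e1606950d43115685136719a425266615454d954d1914114e5358c4053361d2251d863dd893d0fa504fd4fd00610ee4ecf33a9613a5364d5515297e391305a92e378d8398e13552849d565c4d15c9485c173338cf5b91c3756c329185a4c85716856964588c5310cb5795d31cc655d0841d064154f2f50252d3e2ece5500fc349422c0f8514ae3d5434e8ac2e0f03bd3c3b4a82c5394dce82952b3f931284e24a8e026d2d46c9825c9a2652c35cd64a49034cfb4908d4791f2308a439193251642d0a4410f22487218c02fcbe40cbc3fc7e288f12747a2d4b41e0753acf92bcf62b4f22acaa1bcec1d0a639ca41a0b938c651989e2dc6137cda364dc36c6017c9424c92244d41648e340cd15ccc30c88308c11585515082204801fcba13c501ecb612cb31dc762c8a71cc721c4702a44811c6c1ac6a1a4a30fc9f2803e18c3b270962543a0e45c16c5a23c5822c85210830cc321447c1f4301344c1e44a1246e1b4461142c0a4421044019c6408c3c1885e1742007c360d43414c520704e06c2e0b4440ac2a10c2806016094240f413084380dc10074310bc0e0642705c2602c14088080441e03c1a0180c054050241201c0d0280400c0200001 (Nat.mul 10 (Nat.land i 1023))) 1023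
end Cfsg.Agent.Lib.Helper6.TCD.U62a
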