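set_option autoImplicit false
namespace Cfsg.Agent.Lib.Helper6.TCD.U62a
noncomputable def P2 (i : Nat) : Nat := Nat.land (Nat.shiftRight 0x2a0ac2afa3eb3acaaea4eaca4a87a32a8a9e86a56919de70a86b4a2a969a69c99a84a6698a5e9ea9655ab6aba9290ac64991aa990e9f93241aaaa692a9a91e5395e519fe7e9f67c9ee7a8e63aa8e449667488a219c6a28a24f8aa1c87a1da765f8669b8623698e62986609a2109765c83e0e9d658a0656a5203a0a01a01fd9ba11936897d685a39f2a0e8d7c276a2deea22407b1f87ddeb7da789e5e37ce647c6088ce328c6308be2e8b5da84a6d7f26f75e268962488e739c9d374a6b9aa6c73dd099e657361672e1484e2b93a5e96e5a835c582dc470e3481e06815bb951b8949b77fdb5942296d1b17e63e8f63b92da98de488d6456964268e3f8f1a1681a26b5ac6adaa8e1a869de077dde775dc76e2c6519389d91641d48821f6361a86d8c85d8a855ca60dc86017e8320a825c25f17b5e9736f571811706e6028016e7f9fb5b16d7e96a5a56879de6795e47d1e2785a67bd5e7b5e87a9e95715a56d6458d625859855153655d976150759d55358e745ce52dcc515404fd4361584725374d9c74cdc64c5c1701bf4912748976495746f91f6f1ba5bdb66c9b3465b06bdae451134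bd9c66d9a6651657da446d9f6759e42d0a4412d41d97659054219253d4e63d4c62d155251a51cfa624f9618f43fd8861cf03bd3c3f93a3d5386098139d345fd325f530594df558dc358da4a5285e0d25d57934177484d15c91e474cc575485accb3296052967598c73195738d0e434d95655830551554c2548c040d02405005053b3f4b237946510b12c0b44e5422b4f23c53e4f4aa2e4ba3acea3a4e84d4e6394e443ce22749c4b8fb2652c2812a430952592b250d423d26481232388d3351c46117224c8449112189f30d064250421483208bc2ecec3b47b268b61e4f61d8fc3e0f71d0ae3cc712acee1f47c29c6e294a428ca2198db31062384e026cb73745f190d7360d5178921745c34ccf3385822c8a3245521cc52fc842f8bd14c521fc502a4a82e04c2d4781dcb31d4af11c722b070138a61b4441ac431a44019ca10f89718c9e1846026093244900e0371648c0d05622054204800c47e0c06f1347a12c4a124481cc461146c1a82709868090650f43c0ec3a0e45b1681e0d4570cc321444f0bc2e06c2c0ac2a0a428108410543f050220842007c360741c0b41a0381805c1609423024120441003c190340602c0a04c0401c0c008080040500c00 (Nat.mul 10 (Nat.land i 1023))) 1023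
end Cfsg.Agent.Lib.Helper6.TCD.U62a
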