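set_option autoImplicit false
namespace Cfsg.Agent.Lib.Helper6.TCD.U62a
noncomputable def P3 (i : Nat) : Nat := Nat.land (Nat.shiftRight 0x2acace9bac697a16899f6b4a0e7ba22739ca8da968ba8e7ea52a09aa9e9b28faca65a3a98ac260962a1a4e529425aa7299a9a45a923eabaa9a1e3babe5baae5ca063597aa2ab63daaa3792e2f8ce3c8b62caa2a787e709be429b69d8ca9f86a6886e4aa6a17922628569684e7f83282a12909669581e049565494e92802917edfa8264c9e66692663805f6a31ef7f66e7c1e98fe8a9f276a1a3a791f49ea0aa01e19de6b79de69e1e29d674771e0795df89dd5895fe88e22886209c61e7e1d099e6973a0f99216985c997e1271a108620e8365d70636935be95e066f2566e60291e516da2490db393e4e6be1d7de466aa387cdf26de41911b46b9a6695b0901e88c6308a63966a2e8d22a8a19c66e2b665da6599e661d6899d4639d27461c63219711cc72d82851c871e11715cd70d7982dc05de085ca056edba80d6f7c5ff6d5ee7f16b5f9ea7e5ed6b5ac5b1f5589a85cdec7ad7d5815f575a067dd8561de775e376dd7565d955d515595553d9063dd3531cf62d4e525885113d6154660dca605345fdb16917c4c126709236fd764c92069dbd5c51e6e16e471ab6c91b5a51659d1a44564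58da9585a36890f6850e4312d65d9d655936490642109651046458a4098d40cfe624fb3e184515873d9423d4f13f13e6193c4613a3b1384dce84d5803957538d7b3752e568e6360d53852834d7a495245e0d233d7447d704756d5a9663313b45d6832cc837912595105795c3115b308d954953301542f95052d4d2f5002e94a2e13f520fa2c9473dd43504ae3ccf2500ab2d0ee3b5393aca83a53628d2c4cca14c49e4a4a4289134bcdc36c964292b250914a8d449d223448f484ce335194548a3251421c993150d2150b20d072fd05404801f8ff26cfd2dc7d1dcef2ccf92c4752bcf41c8ac3c0702a4ea1b8a61a0e039cdf3906727ce22749c2e4603189825cda174d718c5b358903408e1648c22cca1588831c5430c5330482204bc144bb2d87c1ec4f1e4782d4492c0481ccad118aa1bca710c4d1086a104a5280660fc3d24c621849a0e45e2543c2485a2343515c890cc86210521fc501e82f1b02d12c4a1d8740a471114441b46b1a440194231905c0ec3a17c38088361601d154320c41b1382e1302c0ac1911c2809c26094140f8370842004c120d01c0c01a0a818030160282407c1e0440803c0e03417014150241000c0602c0401c0200400 (Nat.mul 10 (Nat.land i 1023))) 1023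
end Cfsg.Agent.Lib.Helper6.TCD.U62a
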