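set_option autoImplicit false
namespace Cfsg.Agent.Lib.Helper6.TCD.U62a
noncomputable def P5 (i : Nat) : Nat := Nat.land (Nat.shiftRight 0x2ada7a9aac696a1290ad27da4677a1aa8a9e8c9c292a1e95a86939a6b3a2a9c996b2a6698982b0a8a94a82a4aaeaea3e8e916a694a9d96a3ba8ea996eaf942829663497658ab2308ce618e22baaa2995e409ce7289aa587a4e89e3e8a21aa7e6899e18a6e6495a169ea9797e0c9fe5ca1689a067e9d6639565494e8b822838466e9360e7d20f926047f5f0a35fc805fa7da748fe6c799e5a221278e7985636786809eddf77a7c771db81de99e1d79da6b9b6717520581a22886207566f741f886e6a8666685e628ddca84e3a93dc592a4c8365e82e0a826518b6238924880dba90dbe6f5bc91e4471a427e61c6b2416a64b72dbb69e466cdb16c1ec6adae8b19f6723d8f19a8e5998d5988ca316562f8b9a0679968a9d687e2574d9063e1d73dce735cc7ce14609c85fdfb841c470dc2705c06fe007fdfe7ca026e5705cd725c57e7bd7d7b9ed6bdea591f77ad627d5617c5a65b16b5a95c5a1da7a1d9565e755de4789e0561d87755a54d52645d27458e5358c62d8a6253e505864f1474ddc94d53371db46c97c5ed7a5e5785dd385d5216ddb66d5b84791f4c5a5691a35a5a14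4915595ad441aa6a11b43919459a242d946759766d084250a64d924b50553d4e6350252d1352518610f8514f550cf361cf03fd884f5853eceb3e57660ce7604e5601325b5304bcdc544df368d64a52849d264952448d225d0cf5b96f334e3580cb579483255d598c752967445633315f30cc256d5455556304d9540be40d4c2f1004fcde3f4ba4ecb14e5462bcf6510ad508f22ad403bcee2dcb24e8a73a4a34d8a24d0e4470e2384a04b0fe3752e2712b418962552a244d434cd2238d04808c4750f4688945c87450c6314854350c41c8327d04201012ecfc268b83b4771f4b42ccec3e8743dc723d0733c4aa1e46e3a87c294673a0e6284e02fc9e274db180b926498178d835c5d190923545a23cd1160ce22c5632857320863108430052204bd1fc7e2d4a61ec7a2a44a2d876120b02b0ae11c70110a81b44e1ac6a1a46829066194930f4620e89b17c972503716c900d48d2208a0d05414c821445013c6c0bc4c0b078124751c4291146f10c42104400fc3e18c22084610e4381703616455074320c4301341a0b44b0602a1181609c260942408c3c0ec1107c1e0cc0f06c2e0642b02c280541404c12080070700e0340505c0a0240304002030010200601000 (Nat.mul 10 (Nat.land i 1023))) 1023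
end Cfsg.Agent.Lib.Helper6.TCD.U62a
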