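set_option autoImplicit false
namespace Cfsg.Agent.Lib.Helper6.TCD.U62a
noncomputable def P6 (i : Nat) : Nat := Nat.land (Nat.shiftRight 0x2b4aceb2ac6b0abeaea0aaca02789da749c679a066e9b66ba86a0a7e6899e9ca6e6498e62a5e5f95e9494e5193e4da3e4892e4490a8aa263c8ea39a16368d6ada96ab9fe32972318be2ea9aaa8aaa98a2a88b21fa9e1e966a4a8e1ba8a6a8669ea766685e9aa669885213a5a5e82e7d82a099be07a565695602a4e00a49fba4608a424ca364a7ca8e7c5f57be8c7ba8b7ae407a23e79e8879287a19fc78a84a0e117827e9f1dd9ee7a77e7375e7778e7584a268362488dda749d19ca70875cf9b1ce9a5cd9961672661982278d210711c3895c19765b96a4e961c870a046e2546de527fdfe6d238941be6f5f86b5aa919b36a24991da5916437b5a2905bf7a63f8f59b66a3b8a63771a338b5958c19872a226499d8adc7755d4636218818c8721a861cc60ddb85606759e15f20f83a05831817a9fa7e5796edba5be03805b66d5fd7d1785cd775c9ae7dd63589f65b1f35f95f7c1a468dec5e9a067d5876157799e5609dc549557795056dd96019063d4c74dd062d8a519884f5446154972d99701915fda75f5c54d9a16f1b26c176481326c5af491706e56e49da948d2247d6859d114691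06b1ab4dd606995e4995c64d0a4259e6710c6590541d97411944d14e5358e52d4a6112f51d893e9863e4f7505403bcee61d004ecf24e4e95857b4d54f4cd744c4e85212e364e1354d8399285b55d345715ad6a485755a51e474d334965341183391645514318c55996443d0e435563055a564c054cbe5515140d024053c3fcfe3f4b43754550cf8508b23d4b02b13a3c4aa4fd3e3b4ec3acea4e13039d29394e438ca44b09e37c993ec9d36c954b52a244944acd44711b4951933d1722c8f32c8d220c821913448c42108342d08205062f47f2ecba2e4b8260b61d8fc1e4f62c4f41cc751c4f31c0f02a4a81b46a294e228ca2284a027ce03706226c5f378b725c5d368d616c6335c903308e3285733459154c9150c714cc3308822fc512f07e1f47c1ec7a2cc4b124b52b8472bc462b4ab1bc4329c42134a61a46819c66194642489c0ec39268382585c24c36228342303322487214312005013c4e1ac4c1e02b1dc291d0720a0271b86c104400fc3e0f43c184201805e0785a074581581c148300bc2e0b4181281712045110260942408c120443a040370d43206c0d0302c0a81605414020220841f03c060681902c0a0101301c0e0140900c0200400 (Nat.mul 10 (Nat.land i 1023))) 1023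
end Cfsg.Agent.Lib.Helper6.TCD.U62a
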