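set_option autoImplicit false
namespace Cfsg.Agent.Lib.Helper6.TCD.U62a
noncomputable def P7 (i : Nat) : Nat := Nat.land (Nat.shiftRight 0x29da6a9ea3a84a5a7ea2a7c9de91a56a8a9e70a3287a4a86a8669a4eb2ad29ca6eb3a6698986afaa654a7ea3aaa58926b1a36a5a2ead8ee5aa92a28deb097a828d2598ceae8c2ac976608ae38aae4e946268823f902a68aa298a23d89e6aa826899e669966485a56a5e7a97e839ee0d85688a02908226280e9494e529d60c7f2767e5f67f9f3a3e48842469161190ded83a719c9e69b1eaa25e384a78a16368d6819fe328c67d816067fdd99e66f9ba6d9ae74775dc76dd37b273761d7875f775a1a866187326396e14722399124772e4197250709c06fe576f62e8be0495602805b68b64b7164f6c9b0935ac8724c6d5bc929f27c5f0691a390a216863c6799d71e3e6b9e48e9e2785e077dde8962488d948b21f87a1b6599588993649d06458b62a1783dca6061379d7d7f57b5ea0b5e20a8257281df46edba6e5b85ba007d56d5adfb5a9fa5dde5601f85a1aa5c5a869da6579ef7b95b7ad5a565e97a17f66d9a6659865dd5751da749d173d535498e5414b739cd50d3f50145615844d935725ad6713171927711c348dc16bd764bd7447dbe6a570475b76d1196cdb1489ab44d14495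3358d625851c435a543d0b689a067d5855d56555546418f5458d40d3041501631123f51751cf7618f4624f93c187620ff4f53c4ecea3cd3839d8360934590e45f94e5d4e04b4db4ad2a350e25f126594d05e569484ce5cccd5bd6038cca5b0c9520cc31d6659d4a44510574c357cc45710a4250841cbf534bd53cbc530bb4f8fe524fc3ecb0508af518b82b5444e4f22b9413bcee3b4ec29d3a294e84dce63953246d283852e270de284a04b0da27c9724cd62412934cd22352423120479162251a4608a454c63150c43885304824188041102400ba2e4f62dc782d47b1e8b21d0fa3e0f13d4ac1c8aa2a4a83aca63a4a428ca2374dc3649e274df1849a198653605e1905c35c92168d523c58344cf22cc832c881588630884148c0144be1fc7e1f47c2d0b31e4b61284c1d4b11ccab1c4451bc6e1b46c1ac411a46819c99260950f06226c3a0f8960dc940d8911648e15c87154320c4832045013c4e0b87612c770a84811c281c044098251a8400fc5f088630ec6007c1e1745b0d4340705414c300684d0642c05c4905846054431082404c3d084100e43803c330382f0b40b0ac2909c0908c1201c200741b0340c0600a05008044060140400c0200400 (Nat.mul 10 (Nat.land i 1023))) 1023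
end Cfsg.Agent.Lib.Helper6.TCD.U62a
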