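set_option autoImplicit false
namespace Cfsg.Agent.Lib.Helper6.TCD.U62a
noncomputable def Q36 (i : Nat) : Nat := Nat.land (Nat.shiftRight 0x1cd82e8f9361b7118c8d6176aa857e1ad6a1c957d9b5323c70e9c7056f6d253ac6898426273dee7d609ab9a29da6ea0a5e60d8d58e6773a3e852af82a80791e143962991eb7c69f92a7960a5b8761c2556479de2585dd39957409fb7957c6e11e5fa689325a71616696426c6366dda79464f28a4b6a6549727fa41e8572448a52c93aa14de5f8ca0c8a9f27454d7691095c9d8c619a2a6cac9caa11bc8e6346685d9a9ab9a66683e383619ca49d0a2cd789124291af63a2fa5e2e66595956b471a025c1d2839287bd6c7ea052521387eac19e005ce08844df7d261382039ae5d9b59f74d698b1fe7f0dc8de9481e486ed71781df75e8163da018a789d572385dea769b90e9a949e32461a25a50862ab4addca9a45a91ff5e5f9ac26076ea0ab5ba640d49d0da6ce7a6f4d59c5d59f4a06fa7c6d92e8549c4c9b987a2889e2022de96d5e63b51f7cc9e8b663482042399826a3a9663f0e22b690394a5f0a35fd9960135a91a2286a0dae6c28c6caa770ab3a5a93a60369c2a89de87a66959012a8c17d388b97b2266796b36e3d5b9492a4b52ddcb045759be0d658d16b0885d86512546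2c574958cf1805b849d65785f7b4cb9064691d6aaa5924263b5a1ea5b41e9ca9e7304fa8873a3aa5752a35fe069cd7765e33aaa581084b3147726dd9699310fc7d4455a2b0924610f4591b4701276119060207dc57624794e12572153154fa448276143e1d87a3d5843e12164498701a34551a7d8c155550549a162a2162e7e6fc3048d5411e2571e4988d33889350ec2c489595627b1ac86400ee2d994594e30913d3192d3310808d391c43353d3b52160410835754e64c340ad675153c184c72cd3e3ac4c5054451d7b3394a599074350552c905e17a06cd00a4d24190a395803a581474e725c2142d9d150aa508ea619514bc143bc9929556074870b4ec3e4464c0fe3ecc0310bf2f903450f2620780e8f03dd3a3fd872348c44c7f30c5c16927498fd2108f4d0a3308d94d917334641795b1c0f43cca8298a709543374bb2d06827cc82acba2c859378512143c5006f128b02bd3f160100dce434cb81f0533a03d430ca32493404ae2b46e0546d3d87e100313c4753f03502022138441d01701ca11ec0d2048a18cbd224bc1c82a02843140040bc48030031b00b19828208562001f0646a01801134051a41c0585204c0e0b8021040f0241a0980011432 (Nat.mul 10 (Nat.land i 1023))) 1023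
end Cfsg.Agent.Lib.Helper6.TCD.U62a
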