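set_option autoImplicit false
namespace Cfsg.Agent.Lib.Helper6.TCD.U62a
noncomputable def Q37 (i : Nat) : Nat := Nat.land (Nat.shiftRight 0x17ba0a0397df949d9181a6458e337d95e5b9fc56e125423152e498d9b84d9cca86ad99a565e96d6aa67a1194781d77029668d936d5c88667e89e7c709bd8962342d1094d806a29a91de39127b6b2414291993a5947e386b63a416147798a7c97039d8b876b486263686294c60d7c5618d2325922b58a995e29dabe2656a28661eb8aa545a9d6606b07a91d90153435718d5699be68986589a66d8c22f815ff750c1a4d33ac9f37f63968a6ea31f7a1d54654d060e4d8899b8ee08a0679a723772a166ed01741cd845689d9dd41dbf64a834de7569e8077dab9e2866d28f6ca8a692717b122675dc9adb19de8e78a02335a971d356b9b69d0c3491e47860770e1e9ea9e7169fa8e24536a05729772e9076957a92a5a99db82e1379a889469b856622f18c765a093ea98b98d761529417e95eab8b5eeaa96c296557b57d5aea722d597d6a2325738057c666485d1ba1617f59dfe5caa82119a7188673e0e9c20face10642aeab25d9819c8f2927263f9726a8f665a607fa2e2096a8dac65e679d2a45827111274d9665dfb696956dcbb3cd8845e430d0e46c1234248d91888231322a9841d13881121454516f1af574c6794c78724c92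8e39fde97a27d395e73a0539ce1a85d0083073a525292e45909be9ca097466ca2685104fa4954159958884a33a53e314852b0364ed2c288a0290385551611c557c0573f542339655dc80070b03286d2bc993bd493c13c51d76499755e51c44d147e09f67d568b1344c18e73a5b86c5070482059f47e9b9800cc699ef344b134a1f63e3e0946650d4561cc444467100ee0c85e37c5a17cec0a010384ed3ece04a864398e22f40f1c489618f7468de624f429cb44fd40614d34808a528bf4310853d4c829030c08f02c9d170522710f4bdb35bd1b57c8e4b5d50f87b3e4a84f497284241141f3749001c9a1d8a92c817278612dc933603c359293f8f22b54432cfc518ea2b8ff164cf15881308c04094e3507e0c46236cdc3683758148478d943951130f14e46f0b86e1a4b8194f60a898088b92d4781e43b0e85b258942e93a3d4753e0720d43320c684a04f0681e4b8954acc846106410b62ac4410c261e8b3024121f44b128210805d1f0eb120460743f0640d2489b35cd521cbe1dc7009c15038041382c0ac112982904c0c18c60244541246b018011b0181a8080143d0e41b13402108030502f028000b423 (Nat.mul 10 (Nat.land i 1023))) 1023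
end Cfsg.Agent.Lib.Helper6.TCD.U62a
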