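set_option autoImplicit false
namespace Cfsg.Agent.Lib.Helper6.TCD.U62a
noncomputable def Q38 (i : Nat) : Nat := Nat.land (Nat.shiftRight 0x26877de1a725399557a7a5f6fa6f6cdd57a66c84e0a9f6128119866a2d7397069dc6a5216a0a9389dbb7725b7e99c6ea558721b7121a4416c971f4862175ceb2721726662ba5a098a20c8f62a9656ba8996641a067a608b9c08c18c8e562795ff62e195f97d95263706ada7d6160aaf73564819d79ae02a851e8920f855b16c1815fdca7de6795a038a64e73dd68e17b8d155439d070d196a60d6f1e7715cc47daf9d6796fe5a9b6509c1539de8048e86775588ce458ca408990256a7a9928452dab6ba694c6995f178a2a255dddea75db9fd374d58a4cdc987a7e7bdb8ac4cd7f1cba2df078dc75a9367b636976119d9ad936629ba08646782798fa049c41cc35ea0e341715e5fd5a651a99eaa22a37ee7124496aacd4429e067e742f29aac168a8067a41b249eae4a522656b488da439d2837d83909a5a608ba3e8e93e438c63a600dcaa8e068c629ee0ba9644aa5f9a914d95ce166d52802a7210d7179a1905246d29216c5d8f1d17a05aa26a81fd5c566b328a9b3d42c1d87a610f39616d38a3b39a87275d4979b6578a04b97432cc9a45ee9f2489261492e954b1e6a5e520845f1962f70a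8c6f563415e26dd97676200e0937ada20de2c8fc3663592932664250b9a8344e5132b0ad2ecb3620772d4aa1d01813149444a73bd3281e83291f679118a361059d3474d1c14453458a37f96e296ac36e3e22089985f26e5f56b0988dcc61820126886160110fa056a1543595b76273079ec9c9da76550874c1368fd11c572a4af599004fc71129401e543124eb3b8f02c40b0d53d1b444392478d4cc6a8ed918e35815d34c8c4514f3a0808883141885204e56d5f83a6851543a5bdf32dd2f0e4c531c8e01d2b2519387e2157d944a89513c733ec7d074fc3d8f8059874f1890ad863e42a4f9411206c09d3a0fd1b7c48f2e5266990f40d30378dd33c0f048522f8c2300bd2fc92929385d420475655201f449153545c7498e434d8190302c8f2614050a4ab2d0b85154605d44508ff0344205443104ea138243497600d084114e21c992842220d2d20863495200411a45d4a2414c25d470086e1a87e1c8701ecfa3dcf42d81a094261bd210046854556158541983d3643c344ce3289b404ec2986b140461142d2c0780bc690293b1010c0cc3208c9f234612e84d06c280644b1f0fe050c4070130ecf10b80e030a832009020ae0188a0107516400 (Nat.mul 10 (Nat.land i 1023))) 1023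
end Cfsg.Agent.Lib.Helper6.TCD.U62a
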