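set_option autoImplicit false
namespace Cfsg.Agent.Lib.Helper6.TCD.U62a
noncomputable def Q39 (i : Nat) : Nat := Nat.land (Nat.shiftRight 0x1626ee188da68991de89ddf9a65993a288ae408a6268d293a0a67a86848e19997e56a5a16585c45f9d0955738b612995cd5356c571988660b6427d72a136566b9baa094d647166f70e9e9c680872766f66d6a5b19e5a09f274a0690a7d70632b09e204a3e62abe6376e605ed10935fd83d7cab1dc4c5f27869d80dd747dab7fda58e59a4169c96d8a47a5a9d5197050b439aa845a7839c273d538c1b74ddc8751b4971338aa5d5eab2a4571749f776a077e1e0a1ea88521b795e35a95a55d02962ad52d8292666a6a239e9ac5b5ba85d9fa91fc7e5cb49d5e8924a48a986fab4a521e90cc17e96e5a2337d61a63df4a21f6ac615335d594578551b330d24806449060888591650e7a8a0daa9a29ee2260dd6815a164ea57c10a739ae8e9e92f28a4d69982936acdf3a3286719cc5656993e613427f6d6a64e1b88317295232915b0931a3392a391ea754a6c231bc52a8e22609659f123d6b2fd1158eab7ad5095dec819d3602a956d4f5822f149098c59c62d9e874a34f93d3d5494f0f87022ea5c8341ccb9197d539069c1eea4a486c9af4ca1046055941b957512ab8665943565d238f1668f4cf3a6526fd51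8fc57470dd7767763689a54532f9ad799038829b1fd7f559342bd161c4ff514fd2acf31ccba3d8bb2b5400d144299c9295306a2733ed773fa853306231c5d380d435c6743e727bcc99f89922dfb49574a2e83239ea21cde7b4c6210d3309c75e514698c534a3b074a18961f201920c63e63958395871419b120f06d9861c9844e5433b87b29cf451c292e100268f22b0fc606371009321926484db0dce22de2c8003e4ac11455291681e4b92a978586905680a423452f5551b469e42048579e8d1511303dd8301d19a90c2c985278ef37c30061411dd891b4b43e8b11c0eb4fc161b047118433a12c5d8218d4244ed2817c603985b7649c2749801c380885c244a25d48838d6f2364b410ca7a0515203259d2d2094c310aa1f47e3b0791284c2cc0b1d06a2c0f9115882d5460a01a054262a1e22e508290012503a370960d839194920f4d87f8334755f2f59d45cc84046e0b00509c021d8491e93a105423c42b3dc2f1a468384123b4da280d51781f050974801c434d92280d13c6b2a4420a81b3a8ae05c751bc033589b0809018c093389f1102d2d8250387c0183f254610403c1644d064780284b08c640102e138130ec0c00008 (Nat.mul 10 (Nat.land i 1023))) 1023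
end Cfsg.Agent.Lib.Helper6.TCD.U62a
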