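set_option autoImplicit false
namespace Cfsg.Agent.Lib.Helper6.TCD.U62a
noncomputable def P4 (i : Nat) : Nat := Nat.land (Nat.shiftRight 0x2afa7ea0a528aad297a127fa56869dea8a9e87a4a70a3291a86b2ace69a5a9ca6e93a6698aba9daaeb1a6aa5a8a6095654a36a3a2eb08fa3da9aaa97aad8de3694657ab261976338c2588ea39aa62a8d2748fe209c6a493a1e9125a93e6aa7a1997e669965398e629fa9099e859f60b8326c8227aa0256a3e8e99252a06159ae6f84df892e1080e027ce469166d90e427de409ce89a21e779a799e212a0e8278a759f2147827b7760776de878e7675e117f226815d47fdec74e727466e8760e8261a9a21885e1694232936388a24a7161c70a5b971c186e598b9bd895ba926488060088dfe72e27725fa7224c905ac7d5f491db86a1f07bdee7b6226b5c767e2c8f23b6719b8ae3566631729988bd958b5a2675928a5bf63e248858d87dd070dce735cc7f5df7edf97a98283d7c73e0d82978759be819bc5c2046e5f26ddb66d5836cd816c5b06bd7f7adf6591636a5f1585a6695a468dda6015c7a559765e579157785de555527715b541d85e94d7558e7498c62d8a625414f98651d3c6d1c66c9a16b9374d5c449d915e5c05dd215d5385cd725c5bb5bd6e4d96c5ad6a5a53345512595ab6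a91069d2e57d5e4b1a06510b679096692a65d07415964ad934a5286414c52d1440148615465154450d42620ff3c1873b9843b53a4e5745f96d5f4e65a0e939ce24bd603695d5455653d4e5ece14952448d225d92047d1e474e03711a4651845cdf59d4a31d663156236d0e434d8568c1560d6550d754cd53510240549500b92ecb52dcfa3e4f83dcb33d4f43ccf22d93f2a93d4eca93acea4c8a44c534288a5281304991c4589a2611b43d2d2550c41908411032789d344d033cce3349c32cca3249b44c864449730c964289424c91240bc3f47d3f87a3ecf13f0763d8792c4b02bc782b4ac1dcef3b06f29c6c390e819ce5194e3190d3348cc320de17cdd310c2364c02fc922f8bd1888e2348c22c6122488180c6178841745c16c5a1fc4f2e84e130b82c8ae2acb412c741cc4a1c4492a0441b4a61ac421a43f28c3e2849f18c8f228872648520c82204800ec5815c3a154390e0370d8301f87c1347b1d4721c02c11c2b0a86e09c6a094241a0660f43c164561505314851084340801f078500bc2e0b448118450601710c151044008c220d4330c8310441006c1a064290a00b0981404c120741c01c0e0340c0580a0240803c060140400c0200400 (Nat.mul 10 (Nat.land i 1023))) 1023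
end Cfsg.Agent.Lib.Helper6.TCD.U62a
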